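import Groth.Agent.DerivDim.Basic
import Groth.Agent.FSField.Basic
import Groth.Agent.GeomProp.SmoothRegular

/-!
Characteristic zero: free differentials imply smoothness.
-/

set_option autoImplicit false

universe u

open IsLocalRing TensorProduct

noncomputable section

namespace Groth.Agent.KaehlerFreeSmooth

theorem isRegularLocalRing_of_free (k R : Type u) [Field k] [CharZero k] [CommRing R] [Algebra k R]
    [IsLocalRing R] [IsNoetherianRing R] [Module.Free R (KaehlerDifferential k R)] :
    IsRegularLocalRing R := by
  classical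
  let κ := ResidueField R
  set m := maximalIdeal R
  haveI : Algebra.FormallySmooth k κ := Groth.Agent.FSField.formallySmooth_of_perfectField k κ
  have hsurj : Function.Surjective (algebraMap R κ) := residue_surjective
  have hker : RingHom.ker (algebraMap R κ) = m := IsLocalRing.ker_residue
  let f := IsScalarTower.toAlgHom k R κ
  have hsurj' : Function.Surjective f.kerSquareLift :=
    Ideal.Quotient.lift_surjective_of_surjective _ _ hsurj
  have hnil : IsNilpotent (RingHom.ker (f.kerSquareLift :
      R ⧸ (RingHom.ker f.toRingHom) ^ 2 →+* κ)) := by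
    refine ⟨2, ?_⟩
    exact (congrArg (fun J : Ideal (R ⧸ (RingHom.ker f.toRingHom) ^ 2) => J ^ 2)
      (AlgHom.ker_kerSquareLift f)).trans (Ideal.cotangentIdeal_square _)
  let g := Algebra.FormallySmooth.liftOfSurjective (AlgHom.id k κ) f.kerSquareLift hsurj' hnil
  have hg : f.kerSquareLift.comp g = AlgHom.id k κ :=
    Algebra.FormallySmooth.comp_liftOfSurjective _ _ _ _
  obtain ⟨l, hl⟩ := (retractionKerCotangentToTensorEquivSection (R := k) (P := R) (S := κ) hsurj).symm
    ⟨g, hg⟩
  obtain ⟨c, hc⟩ : ∃ c, m.spanFinrank = c := ⟨_, rfl⟩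
  obtain ⟨s, hcard, hspan⟩ := Submodule.FG.exists_span_finset_card_eq_spanFinrank
    (IsNoetherian.noetherian m)
  rw [hc] at hcard
  let e : Fin c ≃ s := (Fintype.equivFinOfCardEq (by simpa using hcard)).symm
  let x : Fin c → R := fun i => (e i : R)
  have hx : ∀ i, x i ∈ m := fun i => hspan ▸ Submodule.subset_span (e i).2
  have hxspan : Submodule.span R (Set.range fun i => (⟨x i, hx i⟩ : m)) = ⊤ := by
    apply Submodule.map_injective_of_injective m.injective_subtype
    rw [Submodule.map_span, Submodule.map_top, Submodule.range_subtype, ← Set.range_comp]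
    have : Set.range (m.subtype ∘ fun i => (⟨x i, hx i⟩ : m)) = (s : Set R) := by
      ext y
      constructor
      · rintro ⟨i, rfl⟩; exact (e i).2
      · intro hy; exact ⟨e.symm ⟨y, hy⟩, by simp [x]⟩
    rw [this]; exact hspan
  have hcot : LinearIndependent κ fun i => m.toCotangent ⟨x i, hx i⟩ := by
    refine linearIndependent_of_top_le_span_of_card_eq_finrank ?_ ?_
    · have h2 := (IsLocalRing.CotangentSpace.span_image_eq_top_iff (R := R)).2 hxspan
      rw [← Set.range_comp] at h2
      exact h2.ge
    · rw [Fintype.card_fin, ← IsLocalRing.spanFinrank_maximalIdeal_eq_finrank_cotangentSpace]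
      exact hc.symm
  let v : Fin c → κ ⊗[R] KaehlerDifferential k R := fun i => 1 ⊗ₜ KaehlerDifferential.D k R (x i)
  have hv : LinearIndependent κ v := by
    rw [Fintype.linearIndependent_iff]
    intro a ha i
    choose b hb using fun i => residue_surjective (a i)
    have hxI : ∀ i, x i ∈ RingHom.ker (algebraMap R κ) := fun i => hker ▸ hx i
    have hlv : ∀ i, l (v i) = (RingHom.ker (algebraMap R κ)).toCotangent ⟨x i, hxI i⟩ := fun i => by
      rw [show v i = KaehlerDifferential.kerCotangentToTensor k R κ
        ((RingHom.ker (algebraMap R κ)).toCotangent ⟨x i, hxI i⟩) from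
          (KaehlerDifferential.kerCotangentToTensor_toCotangent k R κ ⟨x i, hxI i⟩).symm]
      exact LinearMap.congr_fun hl _
    have h1 : l (∑ i, b i • v i) = 0 := by
      have : ∑ i, b i • v i = ∑ i, a i • v i := Finset.sum_congr rfl fun i _ => by
        rw [← hb i]; exact (algebraMap_smul κ (b i) (v i)).symm
      rw [this, ha, map_zero]
    simp only [map_sum, map_smul, hlv] at h1
    rw [← Fintype.linearIndependent_iff.1 hcot a ?_ i]
    simp only [← map_smul, ← map_sum, Ideal.toCotangent_eq_zero] at h1
    have h2 : ∑ i, b i • m.toCotangent ⟨x i, hx i⟩ = 0 := by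
      simp only [← map_smul, ← map_sum, Ideal.toCotangent_eq_zero]
      simpa [hker] using h1
    refine Eq.trans (Finset.sum_congr rfl fun i _ => ?_) h2
    rw [← hb i]; exact algebraMap_smul κ (b i) (m.toCotangent ⟨x i, hx i⟩)
  obtain ⟨φ, hφ⟩ := LinearMap.exists_leftInverse_of_injective (Fintype.linearCombination κ v)
    (LinearMap.ker_eq_bot.2 hv.fintypeLinearCombination_injective)
  let B := Module.Free.chooseBasis R (KaehlerDifferential k R)
  choose r hr using fun i j => residue_surjective (φ (1 ⊗ₜ B j) i)
  let D' : Fin c → Derivation k R R := fun i =>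
    (B.constr R (r i)).compDer (KaehlerDifferential.D k R)
  have hres : ∀ i w, residue R (B.constr R (r i) w) = φ (1 ⊗ₜ w) i := by
    intro i w
    have hlin : ((LinearMap.proj i ∘ₗ φ).restrictScalars R ∘ₗ
        TensorProduct.mk R κ (KaehlerDifferential k R) 1) =
        (Algebra.linearMap R κ) ∘ₗ B.constr R (r i) := by
      refine B.ext fun j => ?_
      simp only [LinearMap.comp_apply, Module.Basis.constr_basis, LinearMap.restrictScalars_apply,
        TensorProduct.mk_apply, LinearMap.proj_apply, Algebra.linearMap_apply]
      exact (hr i j).symm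
    exact (LinearMap.congr_fun hlin w).symm
  let M : Matrix (Fin c) (Fin c) R := Matrix.of fun i j => D' i (x j)
  have hM : M.map (residue R) = 1 := by
    ext i j
    show residue R (B.constr R (r i) (KaehlerDifferential.D k R (x j))) = _
    rw [hres, show (1 : κ) ⊗ₜ KaehlerDifferential.D k R (x j) = v j from rfl,
      show v j = Fintype.linearCombination κ v (Pi.single j 1) by simp]
    rw [← LinearMap.comp_apply, hφ, LinearMap.id_apply, Matrix.one_apply, Pi.single_apply]
  have hdet : IsUnit M.det := by
    refine isUnit_of_map_unit (residue R) _ ?_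
    rw [RingHom.map_det, RingHom.mapMatrix_apply, hM, Matrix.det_one]
    exact isUnit_one
  let D : Fin c → Derivation ℤ R R := fun i =>
    (∑ l, M⁻¹ i l • D' l).restrictScalars ℤ
  have hD : ∀ i j, D i (x j) = if i = j then 1 else 0 := by
    intro i j
    have h := congrFun (congrFun (Matrix.nonsing_inv_mul M hdet) i) j
    rw [Matrix.mul_apply, Matrix.one_apply] at h
    rw [← h]
    show (∑ l, M⁻¹ i l • D' l) (x j) = _
    rw [← Derivation.coeFnAddMonoidHom_apply, map_sum, Finset.sum_apply]
    rfl
  have hQ : ∀ n : ℕ, n ≠ 0 → IsUnit (n : R) := fun n hn => by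
    simpa using ((Nat.cast_ne_zero.2 hn : (n : k) ≠ 0).isUnit).map (algebraMap k R)
  exact IsRegularLocalRing.of_spanFinrank_maximalIdeal_le R
    (hc ▸ Groth.Agent.DerivDim.natCast_le_ringKrullDim c R hQ x hx D hD)

theorem isSmoothAt_iff_free (k A : Type u) [Field k] [CharZero k] [CommRing A] [Algebra k A]
    [Algebra.FiniteType k A] (q : Ideal A) [q.IsPrime] :
    Algebra.IsSmoothAt k q ↔
      Module.Free (Localization.AtPrime q) (KaehlerDifferential k (Localization.AtPrime q)) := by
  haveI : Algebra.EssFiniteType A (Localization.AtPrime q) := .of_isLocalization _ q.primeCompl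
  haveI : Algebra.EssFiniteType k (Localization.AtPrime q) := .comp _ A _
  constructor
  · intro h
    have : Algebra.FormallySmooth k (Localization.AtPrime q) := h
    exact Module.free_of_flat_of_isLocalRing
  · intro h
    haveI : IsNoetherianRing A := Algebra.FiniteType.isNoetherianRing k A
    haveI : IsNoetherianRing (Localization.AtPrime q) :=
      IsLocalization.isNoetherianRing q.primeCompl _ inferInstance
    haveI : Algebra.IsGeometricallyReduced k q.ResidueField :=
      GeomProp.geomReduced_of_perfectField k q.ResidueField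
    exact (GeomProp.isSmoothAt_iff_regular k A q).2 (isRegularLocalRing_of_free k _)

end Groth.Agent.KaehlerFreeSmooth
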